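import Groth.Agent.Fga.HodgeSec
import Groth.Agent.Fga.HodgeIneq
import Groth.Agent.Fga.IntAdd
import Groth.Agent.VarietyA.EulerAdd
import Groth.Agent.Sga67.CohBasic
import Groth.Agent.Grpsch.PicGrp

/-!
# Cohomology on isomorphism classes of coherent modules

In the commutative monoid `MC X` of isomorphism classes of `O_X`-modules (`Groth.Agent.Fga.PicMon`):
* `V i c`: the vanishing of `H^i`; `h k i c`: the dimension of `H^i`; `chi k c`: the Euler characteristic;
* `Co c`: coherence; `supp c`: the support;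
* `Ses a b c`: there is a short exact sequence of coherent modules with these classes; `Ses.smul` (twist by a unit),
  and the consequences of the long exact sequence.
-/

set_option autoImplicit false
universe u
open CategoryTheory CategoryTheory.Limits AlgebraicGeometry
open Groth.Agent.Fga.PicMon Groth.Agent.Fga Groth.Agent.VarietyA.EulerLES

namespace Groth.Agent.Pic13.H11.Cls

variable {X : Scheme.{u}}

/-- vanishing of `H^i` -/
def V (i : ℕ) : MC X → Prop :=
  Quot.lift (fun L => Subsingleton (Coh.HH X L i)) fun _ _ ⟨e⟩ =>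
    propext (equivΓ e i).toEquiv.subsingleton_congr

theorem V_mc (i : ℕ) (L : X.Modules) : V i (mc L) = Subsingleton (Coh.HH X L i) := rfl

/-- coherence -/
def Co : MC X → Prop :=
  Quot.lift Coh.IsCoh fun _ _ ⟨e⟩ =>
    propext ⟨fun h => Sga67.CohBasic.isCoh_of_iso e h, fun h => Sga67.CohBasic.isCoh_of_iso e.symm h⟩

theorem Co_mc (L : X.Modules) : Co (mc L) = Coh.IsCoh L := rfl

/-- the support -/
def supp : MC X → Set X :=
  Quot.lift CohB1.support fun _ _ ⟨e⟩ =>
    Set.Subset.antisymm (CohqB.DevSupport.support_subset_of_mono e.hom)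
      (CohqB.DevSupport.support_subset_of_mono e.inv)

theorem supp_mc (L : X.Modules) : supp (mc L) = CohB1.support L := rfl

section
variable (k : Type u) [Field k] [X.Over (Spec (CommRingCat.of k))]

/-- dimension of `H^i` -/
noncomputable def h (i : ℕ) : MC X → ℕ :=
  Quot.lift (fun L => Module.finrank k (Coh.HH X L i)) fun _ _ ⟨e⟩ =>
    (hmapEquiv k X e i).finrank_eq

theorem h_mc (i : ℕ) (L : X.Modules) : h k i (mc L) = Module.finrank k (Coh.HH X L i) := rfl

/-- Euler characteristic -/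
noncomputable def chi : MC X → ℤ :=
  Quot.lift (Curv2.euler k X) fun _ _ ⟨e⟩ => VarietyA.EulerAdd.euler_congr k e

theorem chi_mc (L : X.Modules) : chi k (mc L) = Curv2.euler k X L := rfl

theorem h_eq_zero {i : ℕ} {c : MC X} (hc : V i c) : h k i c = 0 := by
  induction c using MC.ind with | h L => ?_
  have : Subsingleton (Coh.HH X L i) := hc
  exact Module.finrank_zero_of_subsingleton

end

/-! ### Units -/

theorem exists_invertible (u : (MC X)ˣ) : ∃ L : X.Modules, PicF.IsInvertible L ∧ mc L = (u : MC X) :=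
  HodgeIneq.exists_invertible u

/-- The unit of an invertible module. -/
theorem isUnit_mc {L : X.Modules} (hL : PicF.IsInvertible L) : IsUnit (mc L) := by
  obtain ⟨M, -, ⟨e⟩⟩ := Grpsch.PicGrp.exists_inverse hL
  exact IsUnit.of_mul_eq_one (mc M) ((mc_tensor L M).symm.trans (mc_eq e))

noncomputable def unit {L : X.Modules} (hL : PicF.IsInvertible L) : (MC X)ˣ := (isUnit_mc hL).unit

@[simp] theorem unit_val {L : X.Modules} (hL : PicF.IsInvertible L) : ((unit hL : (MC X)ˣ) : MC X) = mc L :=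
  (isUnit_mc hL).unit_spec

theorem smul_def (u : (MC X)ˣ) (c : MC X) : u • c = (u : MC X) * c := rfl

@[simp] theorem smul_one' (u : (MC X)ˣ) : u • (1 : MC X) = u := (smul_def u 1).trans (mul_one _)

@[simp] theorem smul_val (u v : (MC X)ˣ) : u • (v : MC X) = ((u * v : (MC X)ˣ) : MC X) := rfl

theorem unit_smul {L : X.Modules} (hL : PicF.IsInvertible L) (F : X.Modules) :
    unit hL • mc F = mc (CohB1.tensorMod L F) := by
  rw [smul_def, unit_val, mc_tensor]

theorem Co.smul {c : MC X} (hc : Co c) (u : (MC X)ˣ) : Co (u • c) := by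
  obtain ⟨L, hL, hu⟩ := exists_invertible u
  rw [smul_def, ← hu]
  induction c using MC.ind with | h F => ?_
  rw [← mc_tensor]
  exact SnapperTwist.isCoh_tensor' hL hc

theorem Co.of_smul {c : MC X} {u : (MC X)ˣ} (hc : Co (u • c)) : Co c := by
  have := hc.smul u⁻¹
  rwa [inv_smul_smul] at this

theorem supp_smul_subset (u : (MC X)ˣ) (c : MC X) : supp (u • c) ⊆ supp c := by
  obtain ⟨L, hL, hu⟩ := exists_invertible u
  rw [smul_def, ← hu]
  induction c using MC.ind with | h F => ?_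
  rw [← mc_tensor]
  have h1 := TwistCoh.support_tensor_subset (F := F) hL
  have h2 : supp (mc (CohB1.tensorMod L F)) = supp (mc (CohB1.tensorMod F L)) := by
    rw [mc_tensor, mc_tensor, mul_comm]
  rw [h2]
  exact h1

theorem supp_smul (u : (MC X)ˣ) (c : MC X) : supp (u • c) = supp c := by
  refine (supp_smul_subset u c).antisymm ?_
  have := supp_smul_subset u⁻¹ (u • c)
  rwa [inv_smul_smul] at this

/-! ### Short exact sequences -/

/-- There is a short exact sequence of coherent modules with classes `a`, `b`, `c`. -/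
def Ses (a b c : MC X) : Prop :=
  ∃ S : ShortComplex X.Modules, S.ShortExact ∧ Coh.IsCoh S.X₁ ∧ Coh.IsCoh S.X₂ ∧ Coh.IsCoh S.X₃ ∧
    mc S.X₁ = a ∧ mc S.X₂ = b ∧ mc S.X₃ = c

namespace Ses

variable {a b c : MC X}

theorem mk (S : ShortComplex X.Modules) (hS : S.ShortExact) (h1 : Coh.IsCoh S.X₁) (h2 : Coh.IsCoh S.X₂)
    (h3 : Coh.IsCoh S.X₃) : Ses (mc S.X₁) (mc S.X₂) (mc S.X₃) :=
  ⟨S, hS, h1, h2, h3, rfl, rfl, rfl⟩

/-- from a monomorphism of coherent modules, on a locally Noetherian scheme -/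
theorem of_mono [IsLocallyNoetherian X] {F G : X.Modules} (f : F ⟶ G) [Mono f] (hF : Coh.IsCoh F)
    (hG : Coh.IsCoh G) : Ses (mc F) (mc G) (mc (cokernel f)) :=
  Ses.mk (ShortComplex.mk f (cokernel.π f) (cokernel.condition f))
    { exact := ShortComplex.exact_of_g_is_cokernel _ (cokernelIsCokernel _)
      mono_f := inferInstanceAs (Mono f)
      epi_g := inferInstanceAs (Epi (cokernel.π f)) } hF hG (Sga67.CohBasic.isCoh_cokernel f hF.1 hG)

/-- from an epimorphism of coherent modules, on a locally Noetherian scheme -/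
theorem of_epi [IsLocallyNoetherian X] {F G : X.Modules} (f : F ⟶ G) [Epi f] (hF : Coh.IsCoh F)
    (hG : Coh.IsCoh G) : Ses (mc (kernel f)) (mc F) (mc G) :=
  Ses.mk (ShortComplex.mk (kernel.ι f) f (kernel.condition f))
    { exact := ShortComplex.exact_of_f_is_kernel _ (kernelIsKernel _)
      mono_f := inferInstanceAs (Mono (kernel.ι f))
      epi_g := inferInstanceAs (Epi f) } (Sga67.CohBasic.isCoh_kernel f hF hG.1) hF hG

theorem co₁ (hs : Ses a b c) : Co a := by
  obtain ⟨S, -, h1, -, -, rfl, -, -⟩ := hs; exact h1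

theorem co₂ (hs : Ses a b c) : Co b := by
  obtain ⟨S, -, -, h2, -, -, rfl, -⟩ := hs; exact h2

theorem co₃ (hs : Ses a b c) : Co c := by
  obtain ⟨S, -, -, -, h3, -, -, rfl⟩ := hs; exact h3

theorem smul (hs : Ses a b c) (u : (MC X)ˣ) : Ses (u • a) (u • b) (u • c) := by
  obtain ⟨L, hL, hu⟩ := exists_invertible u
  obtain ⟨S, hS, h1, h2, h3, rfl, rfl, rfl⟩ := hs
  rw [smul_def, smul_def, smul_def, ← hu]
  exact ⟨S.map (DCoh.tensorBi.obj L), TwistCoh.shortExact_tensorBi hL S hS, SnapperTwist.isCoh_tensor' hL h1,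
    SnapperTwist.isCoh_tensor' hL h2, SnapperTwist.isCoh_tensor' hL h3, rfl, rfl, rfl⟩

theorem supp_eq (hs : Ses a b c) : supp b = supp a ∪ supp c := by
  obtain ⟨S, hS, h1, h2, h3, rfl, rfl, rfl⟩ := hs
  exact CohqB.DevSupport.support_shortExact hS

theorem V_mid (hs : Ses a b c) {i : ℕ} (ha : V i a) (hc : V i c) : V i b := by
  obtain ⟨S, hS, h1, h2, h3, rfl, rfl, rfl⟩ := hs
  have h1 : Subsingleton (Coh.HH X S.X₁ i) := ha
  have h3 : Subsingleton (Coh.HH X S.X₃ i) := hc
  change Subsingleton (Coh.HH X S.X₂ i)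
  refine subsingleton_of_forall_eq 0 fun x => ?_
  obtain ⟨y, rfl⟩ := (exact₂ S hS i x).1 (Subsingleton.elim _ _)
  rw [Subsingleton.elim y 0, map_zero]

theorem V_right (hs : Ses a b c) {i : ℕ} (hb : V i b) (ha : V (i + 1) a) : V i c := by
  obtain ⟨S, hS, h1, h2, h3, rfl, rfl, rfl⟩ := hs
  have h1 : Subsingleton (Coh.HH X S.X₁ (i + 1)) := ha
  have h3 : Subsingleton (Coh.HH X S.X₂ i) := hb
  change Subsingleton (Coh.HH X S.X₃ i)
  refine subsingleton_of_forall_eq 0 fun x => ?_
  obtain ⟨y, rfl⟩ := (exact₃ S hS i (i + 1) rfl x).1 (Subsingleton.elim _ _)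
  rw [Subsingleton.elim y 0, map_zero]

theorem V_left (hs : Ses a b c) {i : ℕ} (hc : V i c) (hb : V (i + 1) b) : V (i + 1) a := by
  obtain ⟨S, hS, h1, h2, h3, rfl, rfl, rfl⟩ := hs
  have h1 : Subsingleton (Coh.HH X S.X₂ (i + 1)) := hb
  have h3 : Subsingleton (Coh.HH X S.X₃ i) := hc
  change Subsingleton (Coh.HH X S.X₁ (i + 1))
  refine subsingleton_of_forall_eq 0 fun x => ?_
  obtain ⟨y, rfl⟩ := (exact₁ S hS i (i + 1) rfl x).1 (Subsingleton.elim _ _)
  rw [Subsingleton.elim y 0, map_zero]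

/-- `H^0` of a submodule -/
theorem V_zero_left (hs : Ses a b c) (hb : V 0 b) : V 0 a := by
  obtain ⟨S, hS, h1, h2, h3, rfl, rfl, rfl⟩ := hs
  have h1 : Subsingleton (Coh.HH X S.X₂ 0) := hb
  exact (injective₀ S hS).subsingleton

section
variable (k : Type u) [Field k] [X.Over (Spec (CommRingCat.of k))] [IsProper (X ↘ Spec (CommRingCat.of k))]

theorem chi_eq (hs : Ses a b c) : chi k b = chi k a + chi k c := by
  obtain ⟨S, hS, h1, h2, h3, rfl, rfl, rfl⟩ := hs
  exact S1524.result k X S hS h1 h2 h3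

theorem h_zero_le (hs : Ses a b c) : h k 0 a ≤ h k 0 b := by
  obtain ⟨S, hS, h1, h2, h3, rfl, rfl, rfl⟩ := hs
  have := HodgeSec.finite_HH' k h2 0
  exact LinearMap.finrank_le_finrank_of_injective (injectiveA₀ k S hS)

theorem h_le (hs : Ses a b c) (i : ℕ) : h k i b ≤ h k i a + h k i c := by
  obtain ⟨S, hS, h1, h2, h3, rfl, rfl, rfl⟩ := hs
  have f1 := HodgeSec.finite_HH' k h1 i
  have f2 := HodgeSec.finite_HH' k h2 i
  have f3 := HodgeSec.finite_HH' k h3 i
  rw [h_mc, h_mc, h_mc, VarietyA.EulerAdd.finrank_eq k S hS i]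
  exact add_le_add (LinearMap.finrank_range_le _) (Submodule.finrank_le _)

theorem h_right_le (hs : Ses a b c) (i : ℕ) : h k i c ≤ h k i b + h k (i + 1) a := by
  obtain ⟨S, hS, h1, h2, h3, rfl, rfl, rfl⟩ := hs
  have f1 := HodgeSec.finite_HH' k h1 (i + 1)
  have f2 := HodgeSec.finite_HH' k h2 i
  have f3 := HodgeSec.finite_HH' k h3 i
  rw [h_mc, h_mc, h_mc, VarietyA.EulerAdd.finrank_eq₃ k S hS i]
  exact add_le_add (LinearMap.finrank_range_le _) (Submodule.finrank_le _)

theorem h_left_le (hs : Ses a b c) (i : ℕ) : h k (i + 1) a ≤ h k i c + h k (i + 1) b := by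
  obtain ⟨S, hS, h1, h2, h3, rfl, rfl, rfl⟩ := hs
  have f1 := HodgeSec.finite_HH' k h1 (i + 1)
  have f2 := HodgeSec.finite_HH' k h2 (i + 1)
  have f3 := HodgeSec.finite_HH' k h3 i
  rw [h_mc, h_mc, h_mc, VarietyA.EulerAdd.finrank_eq₁ k S hS i]
  exact add_le_add (LinearMap.finrank_range_le _) (Submodule.finrank_le _)

end

end Ses

/-! ### Euler characteristic and vanishing -/

section
variable (k : Type u) [Field k] [X.Over (Spec (CommRingCat.of k))] [IsProper (X ↘ Spec (CommRingCat.of k))]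

include k in
theorem V_of_dim {c : MC X} (hc : Co c) {d : ℕ} (hd : topologicalKrullDim (supp c) ≤ (d : ℕ)) {i : ℕ}
    (hi : d < i) : V i c := by
  induction c using MC.ind with | h L => ?_
  exact HodgeSec.subsingleton_HH_of_support k hc d hd i hi

omit [IsProper (X ↘ Spec (CommRingCat.of k))] in
theorem chi_eq_sum (c : MC X) (d : ℕ) (hd : ∀ i, d < i → V i c) :
    chi k c = ∑ i ∈ Finset.range (d + 1), (-1 : ℤ) ^ i * (h k i c : ℤ) := by
  induction c using MC.ind with | h L => ?_
  exact VarietyA.EulerAdd.euler_eq_sum k L (d + 1) fun i hi => hd i (by omega)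

/-- all higher cohomology vanishes: `χ = h⁰` -/
theorem chi_eq_h_zero {c : MC X} (hc : ∀ i, 1 ≤ i → V i c) : chi k c = h k 0 c := by
  rw [chi_eq_sum k c 0 fun i hi => hc i hi]
  simp

/-- `H^i = 0` for `i ≥ 2`: `χ ≤ h⁰` -/
theorem chi_le_h_zero {c : MC X} (hc : ∀ i, 2 ≤ i → V i c) : chi k c ≤ h k 0 c := by
  rw [chi_eq_sum k c 1 fun i hi => hc i hi]
  simp [Finset.sum_range_succ]

theorem chi_unit_eq (d : ℕ) (hd : topologicalKrullDim X ≤ d) (L : X.Modules) :
    chi k (mc L) = FGA.eulerCharLE k X L d := (IntAdd.eulerCharLE_eq k X d hd L).symm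

end

end Groth.Agent.Pic13.H11.Cls
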