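import Groth.Agent.Pic13.H11.Cls
import Groth.Agent.Pic13.H945.DegAmple

/-!
# The subgroup of numerically trivial units of the class monoid

* `toU : Pic X →* (MC X)ˣ`, `toU_mk`.
* `numU k X : Subgroup (MC X)ˣ`, `mem_numU_iff`, `mem_numU_mc`.
* `pullU f : (MC Y)ˣ →* (MC X)ˣ`, `pullU_mem`: numerical triviality restricts to closed subschemes.
-/

set_option autoImplicit false
universe u
open CategoryTheory CategoryTheory.Limits AlgebraicGeometry
open Groth.Agent.Fga.PicMon

namespace Groth.Agent.Pic13.H11.NumU

open Cls Grpsch.PicGrp H945.DegAmple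

variable {X Y : Scheme.{u}}

/-- classes in the Picard group as units of the class monoid -/
noncomputable def toU : Pic X →* (MC X)ˣ where
  toFun a := Quotient.lift (fun L : {L : X.Modules // PicF.IsInvertible L} => unit L.2)
    (fun L M h => Units.ext (by
      obtain ⟨e⟩ := h
      rw [unit_val, unit_val]; exact mc_eq e)) a
  map_one' := Units.ext (unit_val _)
  map_mul' a b := by
    induction a using Grpsch.PicGrp.ind with | h L hL => ?_
    induction b using Grpsch.PicGrp.ind with | h M hM => ?_
    refine Units.ext ?_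
    rw [mk_mul_mk, Units.val_mul]
    exact (unit_val _).trans ((mc_tensor L M).trans (congrArg₂ (· * ·) (unit_val hL).symm (unit_val hM).symm))

theorem toU_mk {L : X.Modules} (hL : PicF.IsInvertible L) : toU (mk L hL) = unit hL := rfl

theorem toU_mk_val {L : X.Modules} (hL : PicF.IsInvertible L) : ((toU (mk L hL) : (MC X)ˣ) : MC X) = mc L :=
  unit_val hL

theorem toU_injective : Function.Injective (toU (X := X)) := by
  intro a b hab
  induction a using Grpsch.PicGrp.ind with | h L hL => ?_
  induction b using Grpsch.PicGrp.ind with | h M hM => ?_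
  rw [mk_eq_iff, ← mc_eq_iff, ← toU_mk_val hL, ← toU_mk_val hM, hab]

theorem toU_surjective : Function.Surjective (toU (X := X)) := by
  intro u
  obtain ⟨L, hL, hu⟩ := exists_invertible u
  exact ⟨mk L hL, Units.ext ((toU_mk_val hL).trans hu)⟩

section
variable (k : Type u) [Field k] (X : Scheme.{u}) [X.Over (Spec (CommRingCat.of k))]
  [IsProper (X ↘ Spec (CommRingCat.of k))]

/-- The numerically trivial units. -/
noncomputable def numU : Subgroup (MC X)ˣ := (num0 k X).map toU

theorem unit_mem_numU_iff {L : X.Modules} (hL : PicF.IsInvertible L) :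
    unit hL ∈ numU k X ↔ Pic13.IsNumEquivZero k X L := by
  rw [isNumEquivZero_iff_mem k X hL]
  constructor
  · rintro ⟨a, ha, hau⟩
    have : a = mk L hL := toU_injective hau
    exact this ▸ ha
  · intro h
    exact ⟨_, h, rfl⟩

theorem mem_numU_iff (u : (MC X)ˣ) :
    u ∈ numU k X ↔ ∃ L : X.Modules, PicF.IsInvertible L ∧ Pic13.IsNumEquivZero k X L ∧ mc L = u := by
  constructor
  · intro h
    obtain ⟨L, hL, hu⟩ := exists_invertible u
    have h1 : unit hL = u := Units.ext ((unit_val hL).trans hu)
    exact ⟨L, hL, (unit_mem_numU_iff k X hL).1 (h1 ▸ h), hu⟩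
  · rintro ⟨L, hL, hn, hu⟩
    have h1 : unit hL = u := Units.ext ((unit_val hL).trans hu)
    exact h1 ▸ (unit_mem_numU_iff k X hL).2 hn

end

/-! ### Pullback -/

/-- Pullback of units. -/
noncomputable def pullU (f : Y ⟶ X) : (MC X)ˣ →* (MC Y)ˣ where
  toFun u := toU (pull f (Function.surjInv toU_surjective u))
  map_one' := by
    have : Function.surjInv toU_surjective (1 : (MC X)ˣ) = 1 :=
      toU_injective ((Function.surjInv_eq toU_surjective 1).trans (map_one toU).symm)
    rw [this, map_one, map_one]
  map_mul' a b := by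
    have : Function.surjInv toU_surjective (a * b) =
        Function.surjInv toU_surjective a * Function.surjInv toU_surjective b :=
      toU_injective (by
        rw [Function.surjInv_eq toU_surjective (a * b), map_mul, Function.surjInv_eq toU_surjective a,
          Function.surjInv_eq toU_surjective b])
    rw [this, map_mul, map_mul]

theorem pullU_toU (f : Y ⟶ X) (a : Pic X) : pullU f (toU a) = toU (pull f a) := by
  change toU (pull f (Function.surjInv toU_surjective (toU a))) = _
  rw [toU_injective (Function.surjInv_eq toU_surjective (toU a))]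

theorem pullU_unit_val (f : Y ⟶ X) {L : X.Modules} (hL : PicF.IsInvertible L) :
    ((pullU f (unit hL) : (MC Y)ˣ) : MC Y) = mc ((Scheme.Modules.pullback f).obj L) := by
  rw [← toU_mk, pullU_toU, pull_mk, toU_mk_val]

/-- Numerical triviality restricts to closed subschemes. -/
theorem pullU_mem (k : Type u) [Field k] (X : Scheme.{u}) [X.Over (Spec (CommRingCat.of k))]
    [IsProper (X ↘ Spec (CommRingCat.of k))] (Z : Scheme.{u}) (j : Z ⟶ X) [IsClosedImmersion j]
    [Z.Over (Spec (CommRingCat.of k))] [IsProper (Z ↘ Spec (CommRingCat.of k))]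
    (hj : j ≫ (X ↘ Spec (CommRingCat.of k)) = Z ↘ Spec (CommRingCat.of k)) {u : (MC X)ˣ}
    (hu : u ∈ numU k X) : pullU j u ∈ numU k Z := by
  obtain ⟨a, ha, rfl⟩ := hu
  rw [pullU_toU]
  refine ⟨_, ?_, rfl⟩
  intro W i _ hW hd
  rw [← pull_comp, ← hj, ← Category.assoc]
  exact ha W (i ≫ j) hW hd

end Groth.Agent.Pic13.H11.NumU
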